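import Mathlib
import Groth.Prelude.Def_CAlgX

/-!
Quasi-regular sequences and regular sequences.
-/

set_option autoImplicit false
open MvPolynomial

namespace Groth.Agent.QRegLib

variable {A : Type*} [CommRing A] {σ : Type*} (f : σ → A)

/-- The polynomial involves only variables in `S`. -/
def SuppIn (P : MvPolynomial σ A) (S : Set σ) : Prop := ∀ d, P.coeff d ≠ 0 → ↑d.support ⊆ S

theorem suppIn_univ (P : MvPolynomial σ A) : SuppIn P Set.univ := fun _ _ => Set.subset_univ _

theorem eval_mem_mul_pow (I : Ideal A) (S : Set σ) (n : ℕ) (P : MvPolynomial σ A) (hP : P.IsHomogeneous n)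
    (hS : SuppIn P S) (hI : ∀ d, P.coeff d ∈ I) : eval f P ∈ I * Ideal.span (f '' S) ^ n := by
  rw [eval_eq]
  refine Submodule.sum_mem _ fun d hd => Ideal.mul_mem_mul (hI d) ?_
  rw [hP.degree_eq_sum_deg_support hd, ← Finset.prod_pow_eq_pow_sum]
  exact Ideal.prod_mem_prod fun i hi =>
    Ideal.pow_mem_pow (Ideal.subset_span ⟨i, hS d (mem_support_iff.1 hd) hi, rfl⟩ : f i ∈ Ideal.span (f '' S)) _

theorem suppIn_add {P Q : MvPolynomial σ A} {S : Set σ} (hP : SuppIn P S) (hQ : SuppIn Q S) : SuppIn (P + Q) S := by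
  intro d hd
  by_cases h : P.coeff d = 0
  · rw [coeff_add, h, zero_add] at hd; exact hQ d hd
  · exact hP d h

theorem suppIn_C_mul {P : MvPolynomial σ A} {S : Set σ} (hP : SuppIn P S) (a : A) : SuppIn (C a * P) S := by
  intro d hd
  rw [coeff_C_mul] at hd
  exact hP d (right_ne_zero_of_mul hd)

theorem suppIn_X_mul {P : MvPolynomial σ A} {S : Set σ} (hP : SuppIn P S) {a : σ} (ha : a ∈ S) : SuppIn (X a * P) S := by
  classical
  intro d hd
  rw [coeff_X_mul'] at hd
  split_ifs at hd with hda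
  · intro i hi
    rcases eq_or_ne i a with rfl | hia
    · exact ha
    · exact hP _ hd (by simpa [Finsupp.single_apply, hia.symm] using hi)
  · exact absurd rfl hd

theorem suppIn_zero (S : Set σ) : SuppIn (0 : MvPolynomial σ A) S := fun d hd => absurd (coeff_zero d) hd

theorem exists_poly_of_mem_pow (S : Set σ) (n : ℕ) (y : A) (hy : y ∈ Ideal.span (f '' S) ^ n) :
    ∃ Q : MvPolynomial σ A, Q.IsHomogeneous n ∧ SuppIn Q S ∧ eval f Q = y := by
  classical
  induction n generalizing y with
  | zero =>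
    refine ⟨C y, isHomogeneous_C _ _, fun d hd => ?_, eval_C y⟩
    rw [coeff_C] at hd
    split_ifs at hd with h
    · simp [← h]
    · exact absurd rfl hd
  | succ n ih =>
    rw [pow_succ'] at hy
    refine Submodule.mul_induction_on hy (fun a ha b hb => ?_) fun a b ha hb => ?_
    · induction ha using Submodule.span_induction with
      | mem z hz =>
        obtain ⟨i, hi, rfl⟩ := hz
        obtain ⟨Q, hQ, hQS, rfl⟩ := ih b hb
        exact ⟨X i * Q, add_comm 1 n ▸ (isHomogeneous_X A i).mul hQ, suppIn_X_mul hQS hi, by rw [map_mul, eval_X]⟩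
      | zero => exact ⟨0, isHomogeneous_zero _ _ _, suppIn_zero S, by simp⟩
      | add z w _ _ hz hw =>
        obtain ⟨P, hP, hPS, hP'⟩ := hz
        obtain ⟨Q, hQ, hQS, hQ'⟩ := hw
        exact ⟨P + Q, hP.add hQ, suppIn_add hPS hQS, by rw [map_add, hP', hQ', add_mul]⟩
      | smul r z _ hz =>
        obtain ⟨P, hP, hPS, hP'⟩ := hz
        exact ⟨C r * P, hP.C_mul r, suppIn_C_mul hPS r, by rw [map_mul, hP', eval_C, smul_eq_mul, mul_assoc]⟩
    · obtain ⟨P, hP, hPS, rfl⟩ := ha
      obtain ⟨Q, hQ, hQS, rfl⟩ := hb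
      exact ⟨P + Q, hP.add hQ, suppIn_add hPS hQS, map_add _ _ _⟩

theorem exists_poly_of_mem_mul_pow (I : Ideal A) (S : Set σ) (n : ℕ) (y : A)
    (hy : y ∈ I * Ideal.span (f '' S) ^ n) :
    ∃ Q : MvPolynomial σ A, Q.IsHomogeneous n ∧ SuppIn Q S ∧ (∀ d, Q.coeff d ∈ I) ∧ eval f Q = y := by
  refine Submodule.mul_induction_on hy (fun a ha b hb => ?_) fun a b ha hb => ?_
  · obtain ⟨Q, hQ, hQS, rfl⟩ := exists_poly_of_mem_pow f S n b hb
    exact ⟨C a * Q, hQ.C_mul a, suppIn_C_mul hQS a,
      fun d => by rw [coeff_C_mul]; exact Ideal.mul_mem_right _ _ ha, by rw [map_mul, eval_C]⟩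
  · obtain ⟨P, hP, hPS, hPI, rfl⟩ := ha
    obtain ⟨Q, hQ, hQS, hQI, rfl⟩ := hb
    exact ⟨P + Q, hP.add hQ, suppIn_add hPS hQS, fun d => by rw [coeff_add]; exact add_mem (hPI d) (hQI d),
      map_add _ _ _⟩

/-- From relations to quasi-regularity: it suffices to test homogeneous polynomials with value in `I`. -/
theorem coeff_mem_of_eval_mem (I J : Ideal A) (S : Set σ) (n : ℕ) (hJ : Ideal.span (f '' S) ≤ J)
    (h : ∀ P : MvPolynomial σ A, P.IsHomogeneous n → SuppIn P S → eval f P ∈ I → ∀ d, P.coeff d ∈ J)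
    (P : MvPolynomial σ A) (hP : P.IsHomogeneous n) (hPS : SuppIn P S)
    (hv : eval f P ∈ I ⊔ Ideal.span (f '' S) ^ (n + 1)) (d : σ →₀ ℕ) : P.coeff d ∈ J := by
  obtain ⟨i, hi, y, hy, hiy⟩ := Submodule.mem_sup.1 hv
  rw [pow_succ'] at hy
  obtain ⟨Q, hQ, hQS, hQJ, rfl⟩ := exists_poly_of_mem_mul_pow f _ S n y hy
  have := h (P - Q) (hP.sub hQ) (fun d hd => by
    by_cases h0 : P.coeff d = 0
    · rw [coeff_sub, h0, zero_sub, neg_ne_zero] at hd; exact hQS d hd
    · exact hPS d h0) (by rw [map_sub, ← hiy, add_sub_cancel_right]; exact hi) d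
  rw [coeff_sub] at this
  simpa using add_mem this (hJ (hQJ d))

/-- Quasi-regularity of the subfamily indexed by `S`. -/
def QOn (S : Set σ) : Prop :=
  ∀ (n : ℕ) (P : MvPolynomial σ A), P.IsHomogeneous n → SuppIn P S →
    eval f P ∈ Ideal.span (f '' S) ^ (n + 1) → ∀ d, P.coeff d ∈ Ideal.span (f '' S)

theorem mem_pow_of_mul_mem_pow {S : Set σ} (h : QOn f S) {x : A}
    (hx : ∀ y, x * y ∈ Ideal.span (f '' S) → y ∈ Ideal.span (f '' S)) :
    ∀ (v : ℕ) (y : A), x * y ∈ Ideal.span (f '' S) ^ v → y ∈ Ideal.span (f '' S) ^ v := by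
  intro v
  induction v with
  | zero => intro y _; rw [pow_zero, Ideal.one_eq_top]; trivial
  | succ v ih =>
    intro y hy
    obtain ⟨G, hG, hGS, rfl⟩ := exists_poly_of_mem_pow f S v y (ih y (Ideal.pow_le_pow_right (Nat.le_succ v) hy))
    have hc := h v (C x * G) (hG.C_mul x) (suppIn_C_mul hGS x) (by rw [map_mul, eval_C]; exact hy)
    rw [pow_succ']
    exact eval_mem_mul_pow f _ S v G hG hGS fun d => hx _ (by have := hc d; rwa [coeff_C_mul] at this)

theorem qOn_empty : QOn f (∅ : Set σ) := by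
  classical
  intro n P hP hPS hv d
  rw [Set.image_empty, Ideal.span_empty] at hv ⊢
  by_contra hd
  have hd0 : P.coeff d ≠ 0 := fun h => hd (by rw [h]; exact zero_mem _)
  have h0 : ∀ e, P.coeff e ≠ 0 → e = 0 := fun e he =>
    Finsupp.support_eq_empty.1 (Finset.coe_eq_empty.1 (Set.subset_eq_empty (hPS e he) rfl))
  obtain rfl := h0 d hd0
  have hn : n = 0 := by simpa using (hP.degree_eq_sum_deg_support (mem_support_iff.2 hd0))
  subst hn
  have hPC : P = C (P.coeff 0) := by
    ext e
    rw [coeff_C]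
    split_ifs with he
    · rw [← he]
    · by_contra hne
      exact he (h0 e hne).symm
  rw [zero_add, pow_one, hPC, eval_C] at hv
  exact hd hv

theorem qOn_insert {S : Set σ} {a : σ} (ha : a ∉ S) (h : QOn f S)
    (hreg : ∀ y, f a * y ∈ Ideal.span (f '' S) → y ∈ Ideal.span (f '' S)) : QOn f (insert a S) := by
  classical
  have hle : Ideal.span (f '' S) ≤ Ideal.span (f '' insert a S) :=
    Ideal.span_mono (Set.image_mono (Set.subset_insert _ _))
  have hfa : f a ∈ Ideal.span (f '' insert a S) := Ideal.subset_span ⟨a, Set.mem_insert _ _, rfl⟩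
  suffices ∀ (n : ℕ) (P : MvPolynomial σ A), P.IsHomogeneous n → SuppIn P (insert a S) → eval f P = 0 →
      ∀ d, P.coeff d ∈ Ideal.span (f '' insert a S) by
    intro n P hP hPS hv d
    exact coeff_mem_of_eval_mem f ⊥ _ (insert a S) n le_rfl
      (fun Q hQ hQS hQ0 => this n Q hQ hQS ((Submodule.mem_bot A).1 hQ0)) P hP hPS (Submodule.mem_sup_right hv) d
  intro n
  induction n with
  | zero =>
    intro P hP hPS hv d
    have hPC : P = C (P.coeff 0) := totalDegree_eq_zero_iff_eq_C.1 (Nat.le_zero.1 hP.totalDegree_le)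
    rw [hPC, eval_C] at hv
    rw [hPC, hv, map_zero, coeff_zero]
    exact zero_mem _
  | succ n ih =>
    intro P hP hPS hv
    let H := P.divMonomial (Finsupp.single a 1)
    let G := P.modMonomial (Finsupp.single a 1)
    have hGS : SuppIn G S := fun d hd => by
      have hle' : ¬ Finsupp.single a 1 ≤ d := fun hle => hd (coeff_modMonomial_of_le P hle)
      rw [coeff_modMonomial_of_not_le P hle'] at hd
      intro i hi
      rcases Set.mem_insert_iff.1 (hPS d hd hi) with rfl | h'
      · exact absurd (Finsupp.single_le_iff.2 (Nat.one_le_iff_ne_zero.2 (Finsupp.mem_support_iff.1 hi))) hle'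
      · exact h'
    have hG : G.IsHomogeneous (n + 1) := fun d hd => by
      have hle' : ¬ Finsupp.single a 1 ≤ d := fun hle => hd (coeff_modMonomial_of_le P hle)
      rw [coeff_modMonomial_of_not_le P hle'] at hd
      exact hP hd
    have hHS : SuppIn H (insert a S) := fun d hd => by
      rw [coeff_divMonomial] at hd
      refine subset_trans ?_ (hPS _ hd)
      intro i hi
      simp only [Finset.mem_coe, Finsupp.mem_support_iff, Finsupp.coe_add, Pi.add_apply, ne_eq] at hi ⊢
      omega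
    have hH : H.IsHomogeneous n := fun d hd => by
      rw [coeff_divMonomial] at hd
      have := hP hd
      rw [map_add, Finsupp.weight_single] at this
      simp only [Pi.one_apply, smul_eq_mul, mul_one] at this
      omega
    have hsum : X a * H + G = P := divMonomial_add_modMonomial_single P a
    have hval : f a * eval f H + eval f G = 0 := by
      rw [← hv, ← hsum, map_add, map_mul, eval_X]
    have hfa' : f a * eval f H ∈ Ideal.span (f '' S) ^ (n + 1) := by
      rw [eq_neg_of_add_eq_zero_left hval]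
      exact neg_mem (by
        have := eval_mem_mul_pow f ⊤ S (n + 1) G hG hGS fun _ => trivial
        rwa [Ideal.top_mul] at this)
    have hHn := mem_pow_of_mul_mem_pow f h hreg (n + 1) _ hfa'
    have hHc := coeff_mem_of_eval_mem f ⊥ _ (insert a S) n le_rfl
      (fun Q hQ hQS hQ0 => ih Q hQ hQS ((Submodule.mem_bot A).1 hQ0)) H hH hHS
      (Submodule.mem_sup_right (Ideal.pow_right_mono hle _ hHn))
    obtain ⟨G1, hG1, hG1S, hG1e⟩ := exists_poly_of_mem_pow f S (n + 1) _ hHn
    have hc := h (n + 1) (G + C (f a) * G1) (hG.add (hG1.C_mul _)) (suppIn_add hGS (suppIn_C_mul hG1S _))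
      (by rw [map_add, map_mul, eval_C, hG1e, add_comm (eval f G), hval]; exact zero_mem _)
    intro d
    rw [← hsum, coeff_add]
    refine add_mem ?_ ?_
    · rw [coeff_X_mul']
      split_ifs
      · exact hHc _
      · exact zero_mem _
    · have h2 := hle (hc d)
      rw [coeff_add, coeff_C_mul] at h2
      simpa using sub_mem h2 (Ideal.mul_mem_right (G1.coeff d) _ hfa)

/-- Relations with values in `I` have coefficients in `J`. -/
def QMod (I J : Ideal A) (S : Set σ) : Prop :=
  ∀ (n : ℕ) (P : MvPolynomial σ A), P.IsHomogeneous n → SuppIn P S → eval f P ∈ I → ∀ d, P.coeff d ∈ J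

theorem qMod_key {I J : Ideal A} {S : Set σ} (h : QMod f I J S) (hJ : J = I ⊔ Ideal.span (f '' S)) {a : σ}
    (ha : a ∈ S) (n : ℕ) (y : A) (hy : f a * y ∈ I ⊔ Ideal.span (f '' S) ^ n) :
    ∀ v, v + 1 ≤ n → y ∈ I ⊔ Ideal.span (f '' S) ^ v := by
  classical
  intro v
  induction v with
  | zero => intro _; rw [pow_zero, Ideal.one_eq_top, sup_top_eq]; trivial
  | succ v ih =>
    intro hv
    obtain ⟨i, hi, z, hz, rfl⟩ := Submodule.mem_sup.1 (ih (by omega))
    obtain ⟨G, hG, hGS, rfl⟩ := exists_poly_of_mem_pow f S v z hz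
    have hval : eval f (X a * G) ∈ I ⊔ Ideal.span (f '' S) ^ (v + 1 + 1) := by
      rw [map_mul, eval_X, show f a * eval f G = f a * (i + eval f G) - f a * i by ring]
      exact sub_mem ((sup_le_sup_left (Ideal.pow_le_pow_right hv) I) hy)
        (Submodule.mem_sup_left (Ideal.mul_mem_left _ _ hi))
    have hc := coeff_mem_of_eval_mem f I J S (v + 1) (hJ ▸ le_sup_right) (h (v + 1)) (X a * G)
      (add_comm 1 v ▸ (isHomogeneous_X A a).mul hG) (suppIn_X_mul hGS ha) hval
    have hGJ : ∀ d, G.coeff d ∈ J := fun d => by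
      have := hc (Finsupp.single a 1 + d)
      rwa [coeff_X_mul] at this
    have hGv := eval_mem_mul_pow f J S v G hG hGS hGJ
    refine add_mem (Submodule.mem_sup_left hi) ?_
    rw [hJ, Ideal.sup_mul] at hGv
    rw [pow_succ']
    exact (sup_le_sup_right (Ideal.mul_le_left : I * Ideal.span (f '' S) ^ v ≤ I) _ : _ ≤ I ⊔ _) hGv

theorem qMod_step {I J : Ideal A} {S : Set σ} (h : QMod f I J S) (hJ : J = I ⊔ Ideal.span (f '' S)) {a : σ}
    (ha : a ∈ S) : QMod f (I ⊔ Ideal.span {f a}) J (S \ {a}) := by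
  classical
  intro n P hP hPS hv d
  obtain ⟨i, hi, z, hz, hiz⟩ := Submodule.mem_sup.1 hv
  obtain ⟨b, rfl⟩ := Ideal.mem_span_singleton'.1 hz
  cases n with
  | zero =>
    have hPC : P = C (P.coeff 0) := totalDegree_eq_zero_iff_eq_C.1 (Nat.le_zero.1 hP.totalDegree_le)
    rw [hPC, coeff_C]
    split_ifs
    · have hv' : eval f P ∈ J := (sup_le_sup_left ((Ideal.span_singleton_le_iff_mem _).2
        (Ideal.subset_span ⟨a, ha, rfl⟩ : f a ∈ Ideal.span (f '' S))) I).trans_eq hJ.symm hv
      rwa [hPC, eval_C] at hv'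
    · exact zero_mem _
  | succ m =>
    have hPS' : SuppIn P S := fun d hd => (hPS d hd).trans Set.diff_subset
    have hfb : f a * b ∈ I ⊔ Ideal.span (f '' S) ^ (m + 1) := by
      have := eval_mem_mul_pow f ⊤ S (m + 1) P hP hPS' fun _ => trivial
      rw [Ideal.top_mul] at this
      rw [mul_comm, show b * f a = eval f P - i by rw [← hiz]; ring]
      exact sub_mem (Submodule.mem_sup_right this) (Submodule.mem_sup_left hi)
    obtain ⟨i', hi', w, hw, rfl⟩ := Submodule.mem_sup.1 (qMod_key f h hJ ha (m + 1) b hfb m le_rfl)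
    obtain ⟨G, hG, hGS, rfl⟩ := exists_poly_of_mem_pow f S m w hw
    have hc := h (m + 1) (P + C (-1) * (X a * G))
      (hP.add ((add_comm 1 m ▸ (isHomogeneous_X A a).mul hG).C_mul _))
      (suppIn_add hPS' (suppIn_C_mul (suppIn_X_mul hGS ha) _))
      (by
        rw [map_add, map_mul, map_mul, eval_C, eval_X, ← hiz,
          show i + (i' + eval f G) * f a + -1 * (f a * eval f G) = i + i' * f a by ring]
        exact add_mem hi (Ideal.mul_mem_right _ _ hi')) d
    by_cases hd : P.coeff d = 0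
    · rw [hd]; exact zero_mem _
    · have had : a ∉ d.support := fun hh => (hPS d hd hh).2 rfl
      rwa [coeff_add, coeff_C_mul, coeff_X_mul', if_neg had, mul_zero, add_zero] at hc

theorem qMod_regular [IsNoetherianRing A] {I J : Ideal A} {S : Set σ} (h : QMod f I J S)
    (hJ : J = I ⊔ Ideal.span (f '' S)) (hjac : Ideal.span (f '' S) ≤ Ideal.jacobson ⊥) {a : σ} (ha : a ∈ S)
    (y : A) (hy : f a * y ∈ I) : y ∈ I := by
  have hmem : Submodule.Quotient.mk y ∈ (⨅ v : ℕ, Ideal.span (f '' S) ^ v • ⊤ : Submodule A (A ⧸ I)) := by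
    rw [Submodule.mem_iInf]
    intro v
    obtain ⟨i, hi, w, hw, rfl⟩ :=
      Submodule.mem_sup.1 (qMod_key f h hJ ha (v + 1) y (Submodule.mem_sup_left hy) v le_rfl)
    rw [Submodule.Quotient.mk_add, (Submodule.Quotient.mk_eq_zero I).2 hi, zero_add]
    have hsm : Submodule.Quotient.mk w = w • (Submodule.Quotient.mk 1 : A ⧸ I) := by
      rw [← Submodule.Quotient.mk_smul, smul_eq_mul, mul_one]
    rw [hsm]
    exact Submodule.smul_mem_smul hw trivial
  rw [Ideal.iInf_pow_smul_eq_bot_of_le_jacobson _ hjac, Submodule.mem_bot] at hmem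
  exact (Submodule.Quotient.mk_eq_zero I).1 hmem

section Fin

variable {c : ℕ} (g : Fin c → A)

theorem ofList_take_ofFn (i : ℕ) :
    Ideal.ofList ((List.ofFn g).take i) = Ideal.span (g '' {j : Fin c | (j : ℕ) < i}) := by
  rw [Ideal.ofList]
  congr 1
  ext y
  simp only [Set.mem_setOf_eq, List.mem_take_iff_getElem, List.length_ofFn, Set.mem_image, List.getElem_ofFn]
  exact ⟨fun ⟨j, hj, h⟩ => ⟨⟨j, by omega⟩, by show j < i; omega, h⟩,
    fun ⟨j, hj, h⟩ => ⟨j.1, by have := j.2; omega, h⟩⟩

/-- Regular sequences are quasi-regular. -/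
theorem isQuasiRegular_of_isWeaklyRegular {A : Type*} [CommRing A] {c : ℕ} (g : Fin c → A)
    (hg : RingTheory.Sequence.IsWeaklyRegular A (List.ofFn g)) : CAlgX.IsQuasiRegular g := by
  classical
  have key : ∀ k ≤ c, QOn g {j : Fin c | (j : ℕ) < k} := by
    intro k
    induction k with
    | zero =>
      intro _
      convert qOn_empty g using 1
      ext j; simp
    | succ k ih =>
      intro hk
      have hs : {j : Fin c | (j : ℕ) < k + 1} = insert ⟨k, by omega⟩ {j : Fin c | (j : ℕ) < k} := by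
        ext j; simp [Fin.ext_iff]; omega
      rw [hs]
      refine qOn_insert g (by simp) (ih (by omega)) fun y hy => ?_
      have h1 := hg.regular_mod_prev k (by rw [List.length_ofFn]; omega)
      rw [List.getElem_ofFn, ofList_take_ofFn, smul_eq_mul, Ideal.mul_top] at h1
      rw [← Submodule.Quotient.mk_eq_zero]
      refine h1 ?_
      simp only [smul_zero, ← Submodule.Quotient.mk_smul, smul_eq_mul, Submodule.Quotient.mk_eq_zero]
      exact hy
  intro n P hP hv d
  have huniv : {j : Fin c | (j : ℕ) < c} = Set.univ := by ext j; simp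
  have := key c le_rfl n P hP (by rw [huniv]; exact suppIn_univ P) (by rw [huniv, Set.image_univ]; exact hv) d
  rwa [huniv, Set.image_univ] at this

/-- In a Noetherian ring, quasi-regular sequences in the Jacobson radical are regular. -/
theorem isWeaklyRegular_of_isQuasiRegular {A : Type*} [CommRing A] [IsNoetherianRing A] {c : ℕ} (g : Fin c → A)
    (hjac : Ideal.span (Set.range g) ≤ Ideal.jacobson ⊥) (hq : CAlgX.IsQuasiRegular g) :
    RingTheory.Sequence.IsWeaklyRegular A (List.ofFn g) := by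
  classical
  let J := Ideal.span (Set.range g)
  have hJk : ∀ k : ℕ, J = Ideal.span (g '' {j : Fin c | (j : ℕ) < k}) ⊔ Ideal.span (g '' {j : Fin c | k ≤ (j : ℕ)}) := by
    intro k
    rw [← Ideal.span_union, ← Set.image_union]
    have : {j : Fin c | (j : ℕ) < k} ∪ {j : Fin c | k ≤ (j : ℕ)} = Set.univ := by ext j; simp; omega
    rw [this, Set.image_univ]
  have key : ∀ k ≤ c, QMod g (Ideal.span (g '' {j : Fin c | (j : ℕ) < k})) J {j : Fin c | k ≤ (j : ℕ)} := by
    intro k
    induction k with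
    | zero =>
      intro _ n P hP _ hv
      refine hq n P hP ?_
      have h0 : {j : Fin c | (j : ℕ) < 0} = ∅ := by ext j; simp
      rw [h0, Set.image_empty, Ideal.span_empty, Submodule.mem_bot] at hv
      rw [hv]; exact zero_mem _
    | succ k ih =>
      intro hk
      have hs : {j : Fin c | (j : ℕ) < k + 1} = insert ⟨k, by omega⟩ {j : Fin c | (j : ℕ) < k} := by
        ext j; simp [Fin.ext_iff]; omega
      have hs' : {j : Fin c | k + 1 ≤ (j : ℕ)} = {j : Fin c | k ≤ (j : ℕ)} \ {(⟨k, by omega⟩ : Fin c)} := by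
        ext j; simp [Fin.ext_iff]; omega
      rw [hs, hs', Set.image_insert_eq, Ideal.span_insert, sup_comm]
      exact qMod_step g (ih (by omega)) (hJk k) (by simp)
  rw [RingTheory.Sequence.isWeaklyRegular_iff]
  intro i hi
  rw [List.length_ofFn] at hi
  rw [List.getElem_ofFn, ofList_take_ofFn, smul_eq_mul, Ideal.mul_top]
  refine isSMulRegular_iff_right_eq_zero_of_smul.2 fun x hx => ?_
  obtain ⟨x, rfl⟩ := Submodule.Quotient.mk_surjective _ x
  rw [← Submodule.Quotient.mk_smul, Submodule.Quotient.mk_eq_zero] at hx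
  rw [Submodule.Quotient.mk_eq_zero]
  exact qMod_regular g (key i hi.le) (hJk i) ((Ideal.span_mono (Set.image_subset_range _ _)).trans hjac)
    (show (⟨i, hi⟩ : Fin c) ∈ {j : Fin c | i ≤ (j : ℕ)} from le_refl i) x hx

end Fin

end Groth.Agent.QRegLib
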