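import Groth.Agent.SymGrLib.Compare
import Groth.Agent.QRegLib.Basic
import Groth.Agent.RegLocal.Basic

/-!
Quasi-regular sequences and the symmetric algebra of the conormal module; regular local rings.
-/

set_option autoImplicit false
set_option linter.style.haveILetI false
universe u
open MvPolynomial Groth.Agent.SymGrLib

namespace Groth.Agent.QRegLib

variable {A : Type u} [CommRing A] {c : ℕ} (f : Fin c → A) (J : Ideal A)

theorem exists_fun_of_degree {σ : Type*} : ∀ (n : ℕ) (d : σ →₀ ℕ), d.degree = n →
    ∃ g : Fin n → σ, ∑ i, Finsupp.single (g i) 1 = d := by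
  classical
  intro n
  induction n with
  | zero =>
    intro d hd
    exact ⟨Fin.elim0, by rw [Finset.univ_eq_empty, Finset.sum_empty, ((Finsupp.degree_eq_zero_iff d).1 hd)]⟩
  | succ n ih =>
    intro d hd
    obtain ⟨a, ha⟩ : ∃ a, d a ≠ 0 := by
      by_contra h
      push Not at h
      rw [show d = 0 from Finsupp.ext h, map_zero] at hd
      omega
    have hle : Finsupp.single a 1 ≤ d := Finsupp.single_le_iff.2 (Nat.one_le_iff_ne_zero.2 ha)
    have hd' : (d - Finsupp.single a 1).degree = n := by
      have := congrArg Finsupp.degree (add_tsub_cancel_of_le hle)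
      rw [map_add, Finsupp.degree_single, hd] at this
      omega
    obtain ⟨g, hg⟩ := ih _ hd'
    refine ⟨Fin.cons a g, ?_⟩
    rw [Fin.sum_univ_succ]
    simp only [Fin.cons_zero, Fin.cons_succ]
    rw [hg, add_tsub_cancel_of_le hle]

theorem span_toCotangent_eq_top (hJ : Ideal.span (Set.range f) = J) :
    Submodule.span A (Set.range fun j => J.toCotangent ⟨f j, hJ ▸ Ideal.subset_span ⟨j, rfl⟩⟩) = ⊤ := by
  have hr : (Set.range fun j => J.toCotangent ⟨f j, hJ ▸ Ideal.subset_span ⟨j, rfl⟩⟩) =
      J.toCotangent '' (Set.range fun j => (⟨f j, hJ ▸ Ideal.subset_span ⟨j, rfl⟩⟩ : J)) := by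
    rw [← Set.range_comp]; rfl
  rw [hr, Submodule.span_image]
  have htop : Submodule.span A (Set.range fun j => (⟨f j, hJ ▸ Ideal.subset_span ⟨j, rfl⟩⟩ : J)) = ⊤ := by
    refine Submodule.map_injective_of_injective J.injective_subtype ?_
    rw [Submodule.map_span, Submodule.map_top, Submodule.range_subtype, ← Set.range_comp]
    exact hJ
  rw [htop, Submodule.map_top, Ideal.toCotangent_range]

theorem symGrBijective_of_isQuasiRegular (hJ : Ideal.span (Set.range f) = J) (hq : CAlgX.IsQuasiRegular f) :
    PP16.SymGrBijective A J := by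
  classical
  intro ι _ _
  obtain ⟨φ, hφ, hφs⟩ := exists_surjective_zetaJ J ι
  refine ⟨φ, hφ, (injective_iff_map_eq_zero φ).2 fun s hs => ?_, hφs⟩
  let fJ : Fin c → J := fun j => ⟨f j, hJ ▸ Ideal.subset_span ⟨j, rfl⟩⟩
  let t : (ι → Fin c) → SymmetricPower A ι J.Cotangent := fun g => SymmetricPower.tprod A fun i => J.toCotangent (fJ (g i))
  have ht : Submodule.span A (Set.range t) = ⊤ := by
    rw [eq_top_iff, ← SymmetricPower.span_tprod_eq_top A ι J.Cotangent, Submodule.span_le]
    rintro _ ⟨x, rfl⟩
    have hx : ∀ i, ∃ r : Fin c → A, ∑ j, r j • J.toCotangent (fJ j) = x i := fun i =>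
      (Submodule.mem_span_range_iff_exists_fun A).1 (by rw [span_toCotangent_eq_top f J hJ]; trivial)
    choose r hr using hx
    rw [← funext hr, MultilinearMap.map_sum]
    refine Submodule.sum_mem _ fun g _ => ?_
    rw [MultilinearMap.map_smul_univ]
    exact Submodule.smul_mem _ _ (Submodule.subset_span ⟨g, rfl⟩)
  obtain ⟨r, rfl⟩ := (Submodule.mem_span_range_iff_exists_fun A).1 (show s ∈ Submodule.span A (Set.range t) by rw [ht]; trivial)
  let dg : (ι → Fin c) → (Fin c →₀ ℕ) := fun g => ∑ i, Finsupp.single (g i) 1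
  let P : MvPolynomial (Fin c) A := ∑ g, monomial (dg g) (r g)
  have hdeg : ∀ g, (dg g).degree = Fintype.card ι := fun g => by
    simp [dg, map_sum, Finsupp.degree_single]
  have hP : P.IsHomogeneous (Fintype.card ι) :=
    IsHomogeneous.sum _ _ _ fun g _ => isHomogeneous_monomial _ (hdeg g)
  have heval : ∀ g : ι → Fin c, eval f (monomial (dg g) (r g)) = r g * ∏ i, f (g i) := fun g => by
    rw [eval_monomial, ← Finsupp.prod_finsetSum_index (fun _ => pow_zero _) (fun _ _ _ => pow_add _ _ _)]
    simp
  let z : (ι → Fin c) → ↥(J ^ Fintype.card ι) := fun g => ⟨∏ i, (fJ (g i) : A), by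
    rw [← Finset.card_univ, ← Finset.prod_const]; exact Ideal.prod_mem_prod fun i _ => (fJ (g i)).2⟩
  have hsum : eval f P ∈ J ^ (Fintype.card ι + 1) := by
    have h1 : φ (∑ g, r g • t g) = Submodule.Quotient.mk (∑ g, r g • z g) := by
      rw [map_sum, ← Submodule.mkQ_apply, map_sum (Submodule.mkQ _)]
      exact Finset.sum_congr rfl fun g _ => by rw [map_smul, map_smul]; exact congrArg _ (hφ fun i => fJ (g i))
    rw [hs, eq_comm, Submodule.Quotient.mk_eq_zero, Submodule.mem_comap] at h1
    rw [show eval f P = ((∑ g, r g • z g : ↥(J ^ Fintype.card ι)) : A) by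
      rw [map_sum, Submodule.coe_sum]; exact Finset.sum_congr rfl fun g _ => heval g]
    exact h1
  have hcoeff : ∀ d, P.coeff d ∈ J := fun d => hJ ▸ hq _ P hP (hJ.symm ▸ hsum) d
  let T : (Fin c →₀ ℕ) → SymmetricPower A ι J.Cotangent := fun d => if h : ∃ g, dg g = d then t h.choose else 0
  have hT : ∀ g, T (dg g) = t g := fun g => by
    have h : ∃ g', dg g' = dg g := ⟨g, rfl⟩
    show dite _ _ _ = _
    rw [dif_pos h]
    obtain ⟨e, he⟩ := exists_perm_of_sum_single_eq h.choose_spec
    show SymmetricPower.tprod A (fun i => J.toCotangent (fJ (h.choose i))) = _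
    rw [← show (fun i => g (e i)) = h.choose from funext he]
    exact SymmetricPower.tprod_equiv e fun i => J.toCotangent (fJ (g i))
  let Ψ : MvPolynomial (Fin c) A →+ SymmetricPower A ι J.Cotangent :=
    AddMonoidHom.mk' (fun q => Finsupp.sum (AddMonoidAlgebra.coeff q) fun d a => a • T d) fun q q' => by
      show Finsupp.sum (AddMonoidAlgebra.coeff (q + q')) _ = _
      exact Finsupp.sum_add_index' (fun d => zero_smul _ _) (fun d a a' => add_smul _ _ _)
  have hΨ : ∀ d a, Ψ (monomial d a) = a • T d := fun d a => by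
    show Finsupp.sum (AddMonoidAlgebra.coeff (monomial d a)) (fun d a => a • T d) = _
    rw [sum_monomial_eq]; exact zero_smul _ _
  have h0 : Ψ P = 0 := by
    rw [P.as_sum, map_sum]
    exact Finset.sum_eq_zero fun d _ => by
      rw [hΨ]
      exact smul_eq_zero _ (fun x => Ideal.Cotangent.smul_eq_zero_of_mem (hcoeff d) x) _
  rw [map_sum] at h0
  rw [← h0]
  exact Finset.sum_congr rfl fun g _ => by rw [hΨ, hT]

theorem isQuasiRegular_of_symGr (hJ : Ideal.span (Set.range f) = J) (hS : PP16.SymGrBijective A J)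
    (hli : LinearIndependent (A ⧸ J) fun j => J.toCotangent ⟨f j, hJ ▸ Ideal.subset_span ⟨j, rfl⟩⟩) :
    CAlgX.IsQuasiRegular f := by
  classical
  intro n P hP hv d
  rw [hJ] at hv ⊢
  rcases Nat.eq_zero_or_pos n with rfl | hn
  · have hPC : P = C (P.coeff 0) := totalDegree_eq_zero_iff_eq_C.1 (Nat.le_zero.1 hP.totalDegree_le)
    rw [hPC, eval_C, zero_add, pow_one] at hv
    rw [hPC, coeff_C]
    split_ifs
    · exact hv
    · exact zero_mem _
  let ι := ULift.{u} (Fin n)
  haveI : Nonempty ι := ⟨⟨⟨0, hn⟩⟩⟩
  obtain ⟨φ, hφ, hφb⟩ := hS ι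
  let fJ : Fin c → J := fun j => ⟨f j, hJ ▸ Ideal.subset_span ⟨j, rfl⟩⟩
  have hex : ∀ d ∈ P.support, ∃ g : ι → Fin c, ∑ i, Finsupp.single (g i) 1 = d := fun d hd => by
    obtain ⟨g, hg⟩ := exists_fun_of_degree n d (by rw [Finsupp.degree_apply]; exact (hP.degree_eq_sum_deg_support hd).symm)
    refine ⟨fun i => g i.down, ?_⟩
    rw [← hg]
    exact Equiv.sum_comp Equiv.ulift fun i => Finsupp.single (g i) 1
  choose g hg using hex
  let s : SymmetricPower A ι J.Cotangent :=
    ∑ d ∈ P.support.attach, P.coeff d.1 • SymmetricPower.tprod A fun i => J.toCotangent (fJ (g d.1 d.2 i))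
  have hcard : Fintype.card ι = n := by simp [ι]
  let z : {d // d ∈ P.support} → ↥(J ^ Fintype.card ι) := fun d => ⟨∏ i, (fJ (g d.1 d.2 i) : A), by
    rw [← Finset.card_univ, ← Finset.prod_const]; exact Ideal.prod_mem_prod fun i _ => (fJ _).2⟩
  have hs : s = 0 := by
    refine hφb.1 (Eq.trans ?_ (map_zero φ).symm)
    have h1 : φ s = Submodule.Quotient.mk (∑ d ∈ P.support.attach, P.coeff d.1 • z d) := by
      rw [map_sum, ← Submodule.mkQ_apply, map_sum (Submodule.mkQ _)]
      exact Finset.sum_congr rfl fun d _ => by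
        rw [map_smul, map_smul]; exact congrArg _ (hφ fun i => fJ (g d.1 d.2 i))
    rw [h1, Submodule.Quotient.mk_eq_zero, Submodule.mem_comap, Submodule.subtype_apply, Submodule.coe_sum]
    have he : ∑ d ∈ P.support.attach, ((P.coeff d.1 • z d : ↥(J ^ Fintype.card ι)) : A) = eval f P := by
      rw [eval_eq, ← Finset.sum_attach P.support]
      refine Finset.sum_congr rfl fun d _ => ?_
      show P.coeff d.1 * ∏ i, f (g d.1 d.2 i) = _
      congr 1
      conv_rhs => rw [← hg d.1 d.2]
      show _ = Finsupp.prod _ _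
      rw [← Finsupp.prod_finsetSum_index (fun _ => pow_zero _) (fun _ _ _ => pow_add _ _ _)]
      simp
    rw [he, hcard]
    exact hv
  let Cq := A ⧸ J
  have hsp : Submodule.span Cq (Set.range fun j => J.toCotangent (fJ j)) = ⊤ := by
    rw [eq_top_iff]
    intro x _
    have hx : x ∈ Submodule.span A (Set.range fun j => J.toCotangent (fJ j)) := by
      rw [span_toCotangent_eq_top f J hJ]; trivial
    exact Submodule.span_subset_span A Cq _ hx
  let b : Module.Basis (Fin c) Cq J.Cotangent := Module.Basis.mk hli hsp.ge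
  let L : SymmetricAlgebra Cq J.Cotangent →ₐ[Cq] MvPolynomial (Fin c) Cq := SymmetricAlgebra.lift (b.constr Cq X)
  have hL : ∀ j, L (SymmetricAlgebra.ι Cq J.Cotangent (J.toCotangent (fJ j))) = X j := fun j => by
    rw [SymmetricAlgebra.lift_ι_apply, show J.toCotangent (fJ j) = b j from (Module.Basis.mk_apply hli hsp.ge j).symm,
      Module.Basis.constr_basis]
  have hmap : MvPolynomial.map (Ideal.Quotient.mk J) P = L (symToAlg A (C := Cq) ι s) := by
    conv_lhs => rw [P.as_sum, ← Finset.sum_attach P.support]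
    rw [map_sum, map_sum, map_sum]
    refine Finset.sum_congr rfl fun d _ => ?_
    rw [map_monomial, map_smul, symToAlg_tprod, ← algebraMap_smul Cq (P.coeff d.1), map_smul, map_prod,
      Finset.prod_congr rfl fun i _ => hL (g d.1 d.2 i)]
    have hm : ∀ a : Cq, monomial d.1 a = C a * ∏ i, (X (g d.1 d.2 i)) := fun a => by
      conv_lhs => rw [← hg d.1 d.2]
      rw [MvPolynomial.monomial_sum_index]
      rfl
    rw [hm, MvPolynomial.smul_eq_C_mul, Ideal.Quotient.algebraMap_eq]
  rw [hs, map_zero, map_zero] at hmap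
  rw [← Ideal.Quotient.eq_zero_iff_mem, ← coeff_map, hmap, coeff_zero]

open IsLocalRing in
theorem isRegularLocalRing_iff_symGrBijective (A : Type u) [CommRing A] [IsLocalRing A] [IsNoetherianRing A] :
    IsRegularLocalRing A ↔ PP16.SymGrBijective A (maximalIdeal A) := by
  classical
  constructor
  · intro h
    obtain ⟨e, he⟩ := RegLocal.exists_nat_ringKrullDim (R := A)
    have hr := (isRegularLocalRing_iff A).1 h
    rw [he] at hr
    have hr' : (maximalIdeal A).spanFinrank = e := by exact_mod_cast hr
    obtain ⟨x, hx⟩ := RegLocal.exists_generators (R := A)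
    have hreg := RegLocal.isRegular_of_generators A (d := (maximalIdeal A).spanFinrank) (by rw [he, hr']) x hx
    exact symGrBijective_of_isQuasiRegular x _ hx (isQuasiRegular_of_isWeaklyRegular x hreg.toIsWeaklyRegular)
  · intro hS
    letI : Field (A ⧸ maximalIdeal A) := Ideal.Quotient.field _
    haveI : Module.Finite A (maximalIdeal A).Cotangent :=
      Module.Finite.of_surjective _ (maximalIdeal A).toCotangent_surjective
    haveI : Module.Finite (A ⧸ maximalIdeal A) (maximalIdeal A).Cotangent := Module.Finite.of_restrictScalars_finite A _ _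
    let b := Module.finBasis (A ⧸ maximalIdeal A) (maximalIdeal A).Cotangent
    choose y hy using fun j => (maximalIdeal A).toCotangent_surjective (b j)
    let f := fun j => (y j : A)
    have hJ : Ideal.span (Set.range f) = maximalIdeal A := by
      refine le_antisymm (Ideal.span_le.2 ?_) ?_
      · rintro _ ⟨j, rfl⟩; exact (y j).2
      refine Submodule.le_of_le_smul_of_le_jacobson_bot (IsNoetherian.noetherian (maximalIdeal A))
        (maximalIdeal_le_jacobson ⊥) ?_
      intro x hx
      have hmem : (maximalIdeal A).toCotangent ⟨x, hx⟩ ∈ Submodule.span A (Set.range fun j => (maximalIdeal A).toCotangent (y j)) := by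
        have h1 := b.mem_span ((maximalIdeal A).toCotangent ⟨x, hx⟩)
        rw [← funext hy] at h1
        rw [← Submodule.restrictScalars_span A (A ⧸ maximalIdeal A) Ideal.Quotient.mk_surjective]
        exact h1
      obtain ⟨r, hr⟩ := (Submodule.mem_span_range_iff_exists_fun A).1 hmem
      simp only [← map_smul, ← map_sum] at hr
      rw [Ideal.toCotangent_eq, Submodule.coe_sum, pow_two] at hr
      have hs : ∑ j, ((r j • y j : maximalIdeal A) : A) ∈ Ideal.span (Set.range f) :=
        Submodule.sum_mem _ fun j _ => Ideal.mul_mem_left _ _ (Ideal.subset_span ⟨j, rfl⟩)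
      have hsub := sub_mem (Submodule.mem_sup_left (T := maximalIdeal A • maximalIdeal A) hs)
        (Submodule.mem_sup_right (S := Ideal.span (Set.range f)) hr)
      rwa [sub_sub_cancel] at hsub
    have hq : CAlgX.IsQuasiRegular f := isQuasiRegular_of_symGr f _ hJ hS (by
      convert b.linearIndependent using 1
      exact funext hy)
    have hw := isWeaklyRegular_of_isQuasiRegular f (by rw [hJ]; exact maximalIdeal_le_jacobson ⊥) hq
    have hof : Ideal.ofList (List.ofFn f) = maximalIdeal A := Eq.trans (by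
      rw [Ideal.ofList]; congr 1; ext z; simp [List.mem_ofFn]) hJ
    have hr : RingTheory.Sequence.IsRegular A (List.ofFn f) := ⟨hw, by
      rw [hof, smul_eq_mul, Ideal.mul_top]; exact (maximalIdeal.isMaximal A).ne_top.symm⟩
    have hd := ringKrullDim_add_length_eq_ringKrullDim_of_isRegular (List.ofFn f) hr
    rw [hof, ringKrullDim_eq_zero_of_field, List.length_ofFn, zero_add] at hd
    refine IsRegularLocalRing.of_spanFinrank_maximalIdeal_le A ?_
    rw [← hd]
    have hle : (maximalIdeal A).spanFinrank ≤ Module.finrank (A ⧸ maximalIdeal A) (maximalIdeal A).Cotangent := by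
      have hsp := Submodule.spanFinrank_span_le_ncard_of_finite (R := A) (Set.finite_range f)
      rw [← Ideal.span, hJ] at hsp
      refine hsp.trans ?_
      rw [← Set.image_univ]
      refine (Set.ncard_image_le Set.finite_univ).trans ?_
      rw [Set.ncard_univ, Nat.card_eq_fintype_card, Fintype.card_fin]
    exact_mod_cast hle

end Groth.Agent.QRegLib
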